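import Cfsg.Agent.Lib.C6U.ExcC

/-! Superseded by `C6U/ExcC` (`dick3`, `hom_ht`). -/
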