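import Cfsg.Agent.Lib.C6U.Def
import Cfsg.Agent.Lib.C6U.Inv

/-! The involution of the model is isolated. -/

set_option autoImplicit false
set_option linter.unusedSectionVars false

namespace Cfsg.Lib.C6U

open scoped MatrixGroups
open Subgroup Matrix MulAction Cfsg.Geo Cfsg.Lib.C6 Cfsg.Lib.C6F Cfsg.Lib.C6S
open Cfsg.Lib.Asch hiding tr

variable {F : Type*} [Field F] [Fintype F] {q : ℕ} {σ : F →+* F} {ζ γ : F} {x y u w h t : GL (Fin 7) F}
  {M : Subgroup (GL (Fin 7) F)}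

local notation "G7" => GL (Fin 7) F

open Cfsg.Lib.C6B (pr pr_eq pr_eq_one sc_of_mem)
open Cfsg.Lib.Linear (mem_specialLinear)

/-- Copy `C6S.Ov.iso` (C6/SevD) with `inv3U` for the form `rf q (J3 F)` (Gram matrix `2`; `sform_rf`, `sim_rf` with
`D.j3`, `SForm.scalars_le`) in place of `inv3`. -/
theorem OvU.iso (D : OvU q σ ζ γ x y u w h t M) (K : KER M t) {s g : GL (Fin 7) F} (hs : s ∈ M)
    (e : s = g * t * g⁻¹) (hc : s * t = t * s) : s = t := by
  let α := resJ (M ⊓ centralizer {t}) _ _ k3_j3 fun g hg => D.j3 (mem_centralizer_singleton_iff.1 hg.2)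
  have hα : ∀ g, (α g).1 = K3 F * g.1.1 * J3 F := fun _ => rfl
  clear_value α
  have k : ∀ g, Sc (α g) → ∃ c : F, g.1.1 = c • 1 ∨ g.1.1 = c • t.1 := fun g ⟨c, hc⟩ => by
    have g2 := mem_centralizer_singleton_iff.1 g.2.2
    have c0 := ne_zero_of_eq_smul hc
    have e1 : (scGL _ (Units.mk0 c c0)⁻¹ * g.1).1 = c⁻¹ • g.1.1 := by simp [coe_scGL]
    refine ⟨c, (K _ (mul_mem (D.sc (scGL_mem (Units.mk0 c c0)⁻¹)) g.2.1) (Units.ext ?_) ?_).imp (fun e => ?_) fun e => ?_⟩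
    · rw [Units.val_mul, Units.val_mul t, e1, smul_mul_assoc, mul_smul_comm, ← Units.val_mul, g2, Units.val_mul]
    · rw [e1, Matrix.smul_mul, ← D.j3 g2, ← hα, hc]; simp [smul_smul, c0]
    all_goals rw [← smul_inv_smul₀ c0 g.1.1, ← e1, e]
    rfl
  have s2 : s * s = 1 := by rw [e, conj_mul, D.tt]; simp
  let s' : ↥(M ⊓ centralizer {t}) := ⟨s, hs, mem_centralizer_singleton_iff.2 hc⟩
  by_cases k1 : Sc (α s')
  · obtain ⟨c, k2 | k2⟩ := k s' k1
    · exact (D.nst (by simpa [e, mul_assoc] using (sc_conj_iff (g := s) (x := g)).2 ⟨c, k2⟩)).elim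
    · have k2 : s.1 = c • t.1 := k2
      have := trace_cj g t.1
      rw [cj_coe, ← e, k2, trace_smul, show t.1.trace = -1 by
        simp only [D.ht, trace, Fin.sum_univ_seven, diag_apply, Matrix.neg_apply]
        simp [r6, PEquiv.toMatrix_apply]] at this
      exact Units.ext (by rw [k2, show c = 1 by simpa using this, one_smul])
  exfalso
  have sf : SForm σ 1 (rf q (J3 F)) := sform_rf D.bar (by
    rw [show ((J3 F).map σ)ᵀ * J3 F = (2 : F) • 1 by
      ext i j; fin_cases i <;> fin_cases j <;> simp [J3, mul_apply, Fin.sum_univ_seven, one_add_one_eq_two]]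
    simp [D.two])
  let u' : ↥(M ⊓ centralizer {t}) := ⟨u, D.mu, mem_centralizer_singleton_iff.2 D.tu.symm⟩
  let w' : ↥(M ⊓ centralizer {t}) := ⟨w, D.mw, mem_centralizer_singleton_iff.2 (D.ww ▸ (Commute.self_pow w 2).eq)⟩
  have z7 := D.prim.pow_eq_one
  have au : (α u').1 = diagonal ![ζ, ζ ^ 4, ζ ^ 2] := by
    ext i j; fin_cases i <;> fin_cases j <;> simp [hα, k3_mul, u', D.hu]; grind
  have u7 : α u' ^ 7 = 1 := by rw [← map_pow, ← α.map_one]; congr 1; exact Subtype.ext D.u7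
  have w2 : α w' ^ 2 = 1 := Units.ext (by
    rw [← map_pow, hα, coe_pow, D.ww, Matrix.mul_assoc, D.tj, k3_j3, Units.val_one])
  have uw : (α u' * α w') ^ 3 = 1 := by rw [← map_mul, ← map_pow, ← α.map_one]; congr 1; exact Subtype.ext D.uw
  have d1 : (α u').1.det = 1 := by simp [au, Fin.prod_univ_three]; grind
  have d2 : (α w').1.det = 1 := by
    have h2 := congrArg (·.1.det) w2
    have h3 := congrArg (·.1.det) uw
    simp only [Units.val_pow_eq_pow_val, Units.val_mul, det_pow, det_mul, d1, Units.val_one, det_one] at h2 h3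
    grind
  have a2 : α s' * α s' = 1 := by rw [← map_mul, ← α.map_one]; congr 1; exact Subtype.ext s2
  have d3 : (α s').1.det * (α s').1.det = 1 := by rw [← det_mul, ← Units.val_mul, a2]; simp
  let z := scGL (Fin 3) (GeneralLinearGroup.det (α s'))
  have hz : z.1 = (α s').1.det • 1 := by simp [z, coe_scGL]
  obtain ⟨c, ⟨hc', -⟩, e1⟩ := inv3U D.bar D.two sf (Γ := (α.range ⊔ scalars _ F) ⊓ specialLinear _ F)
    (inf_le_left.trans (sup_le (by
      rintro _ ⟨g, rfl⟩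
      exact sim_rf (D.sim g.2.1) (by rw [hα, D.j3 (mem_centralizer_singleton_iff.1 g.2.2)])) sf.scalars_le)) inf_le_right
    (s := α s' * z) ⟨mem_sup_left ⟨u', rfl⟩, mem_specialLinear.2 d1⟩ ⟨mem_sup_left ⟨w', rfl⟩, mem_specialLinear.2 d2⟩
    ⟨mul_mem_sup ⟨s', rfl⟩ (scGL_mem _), mem_specialLinear.2 (by simp [hz]; grind)⟩ u7 w2 uw (by
      have := phi7 D.prim
      have := seven_ne D.prim
      rw [← mul_eq_one_iff_eq_inv.1 ((pow_succ _ 6).symm.trans u7)]
      simp [D3.tr, au, diagonal_pow, Fin.sum_univ_three]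
      grind) (Units.ext (by simp [sq, hz, smul_smul, d3, ← Units.val_mul, a2]))
    fun e => k1 (by simpa [eq_inv_of_mul_eq_one_left e] using Sc.inv ⟨_, hz⟩)
  obtain ⟨_, ⟨c, rfl⟩, v, hv, rfl⟩ := mem_sup_of_normal_right.1 hc'
  have k2 : Sc (α (c * w' * c⁻¹ * s'⁻¹)) := by
    rw [mul_assoc (α c), (sc_of_mem hv).comm, _root_.mul_inv_rev, ← mul_assoc, ← mul_assoc,
      mul_inv_cancel_right] at e1
    rw [map_mul, map_mul, map_mul, map_inv, map_inv, e1, ← Sc.comm ⟨_, hz⟩ (α s'), mul_inv_cancel_right]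
    exact ⟨_, hz⟩
  have e2 : (c * w' * c⁻¹).1 * (c * w' * c⁻¹).1 = t := by
    simp only [coe_mul, InvMemClass.coe_inv, w']
    rw [conj_mul, ← sq, D.ww, mem_centralizer_singleton_iff.1 c.2.2, mul_inv_cancel_right]
  have e3 : ∀ z r : G7, Sc z → r * r = 1 → (c * w' * c⁻¹).1 ≠ z * r := fun z r h1 h2 h3 => D.nst (by
    rw [← e2, h3, mul_assoc, ← mul_assoc r, ← h1.comm r, mul_assoc z r, h2, mul_one]
    exact h1.mul h1)
  obtain ⟨d, k3 | k3⟩ := k _ k2
  · exact e3 _ s ⟨d, k3⟩ s2 (by simp [s'])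
  · refine e3 ((c * w' * c⁻¹ * s'⁻¹).1 * t) (t * s) ⟨d, ?_⟩ ?_ ?_
    · rw [Units.val_mul, k3, smul_mul_assoc, ← Units.val_mul, D.tt, Units.val_one]
    · rw [mul_assoc, ← mul_assoc s, hc, mul_assoc, s2, mul_one, D.tt]
    · rw [mul_assoc _ t, ← mul_assoc t, D.tt]; simp [s']

/-- Copy `C6S.Ov.main`. -/
theorem OvU.main (D : OvU q σ ζ γ x y u w h t M) (K : KER M t) :
    M ≤ normalizer (Q7 x y : Set (GL (Fin 7) F)) := by
  have iso : IsIsolatedInvolution (⟨t, D.mt⟩ : M) :=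
    ⟨orderOf_eq_prime (Subtype.ext ((sq t).trans D.tt)) fun e => D.nst (by
      rw [show t = 1 from congrArg Subtype.val e]; exact sc_one), fun ⟨g, hg⟩ hc => Subtype.ext
      (D.iso K (M.mul_mem (mul_mem hg D.mt) (inv_mem hg)) rfl (congrArg Subtype.val hc.eq).symm)⟩
  haveI := PF.isSolvable_of_odd _ (Core.odd_card_oddCore M)
  obtain ⟨K, k1, k2, k3⟩ := exists_ab (oddCore M) (Z := (scalars _ F).subgroupOf M) fun e => D.nsc (by
    have := (sc_of_mem (e (ZStar.zstar iso ⟨x, D.mx⟩))).inv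
    simpa [inv_eq_of_mul_eq_one_right D.tt, ← mul_assoc, D.tx] using this)
  refine D.le_of_ab (N := K.map M.subtype) (fun g hg => mem_normalizer ?_) (by rwa [map_le_iff_le_comap])
    (by rwa [← map_commutator, map_le_iff_le_comap])
  rintro _ ⟨s, hs, rfl⟩
  exact ⟨_, k1.conj_mem s hs ⟨g, hg⟩, rfl⟩

end Cfsg.Lib.C6U
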