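import Cfsg.Agent.Lib.C6U.Def

/-! The kernel of the involution centraliser in odd characteristic. -/

set_option autoImplicit false
set_option linter.unusedSectionVars false

namespace Cfsg.Lib.C6U

open scoped MatrixGroups
open Subgroup Matrix MulAction Cfsg.Geo Cfsg.Lib.C6 Cfsg.Lib.C6F Cfsg.Lib.C6S Cfsg.Lib.PSL2
open Cfsg.Lib.Asch hiding tr

variable {F : Type*} [Field F] [Fintype F] {ζ γ : F} {x y u w h t : GL (Fin 7) F} {M : Subgroup (GL (Fin 7) F)}

/-- Port of `C6S.solv_dih` (C6/SevF): in the subfield case `|k| ≤ 3` the group `H` embeds in `PGL₂(k)`, of order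
`6` or `24`, which has no element of order seven. -/
theorem solv_dihU {H : Subgroup PGL(2, F)} [Group.IsSolvable H] {a : Fˣ} {n : PGL(2, F)} (ha : aff a 0 ∈ H)
    (ht : swp 1 ∈ H) (hn : n ∈ H) (a7 : a ^ 7 = 1) (a1 : a ≠ 1) (c : Commute (swp 1) n) : n ^ 2 = 1 := by
  haveI := Fact.mk (CharP.char_is_prime F (ringChar F))
  have k : ∀ m, aff a (0 : F) ^ m = 1 → m.Coprime 7 → False := fun m e c => a1
    ((pow_eq_one_iff_of_coprime c).1 ⟨by simpa [aff_zero_pow, aff_eq_one_iff] using e, a7⟩)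
  have sm : ∀ {G : Type} [Group G], (∀ g : G, g ^ 60 = 1) → ¬ Nonempty (H ≃* G) := fun h ⟨e⟩ => k 60 (by
    simpa only [← map_pow, e.map_eq_one_iff, Subtype.ext_iff, coe_pow, coe_one] using h (e ⟨_, ha⟩)) (by norm_num)
  rcases dickson_pgl (AlgebraicClosure F) (ringChar F) H with ⟨z, h⟩ | ⟨x, y, _, h, e⟩ |
    ⟨-, h | h | h⟩ | ⟨-, h⟩ | ⟨_, -, h⟩
  · exact absurd h (no_fix ha ht a1 z)
  · have h := h.ne
    have sw : ∀ g ∈ H, toK _ g ∉ fix2 x y → g * g = 1 := fun g hg k => toK_injective (by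
      have := swap_of_mem_pairStab (e hg) k
      rw [map_mul, mul_self_of_swap h this.1 this.2, map_one])
    have k1 : toK _ (swp 1) ∉ fix2 x y := fun k1 => k 2 (by
      have := (commute_of_mem_fix2 h k1 (mem_fix2_of_mul_self_ne h (e ha) fun k2 => k 2 (by
        rwa [← map_mul, map_eq_one_iff _ toK_injective, ← sq] at k2) (by norm_num))).eq
      rw [← map_mul, ← map_mul, toK_injective.eq_iff, ← mul_inv_eq_iff_eq_mul, swp_conj_aff,
        inv_eq_iff_mul_eq_one] at this
      rwa [sq]) (by norm_num)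
    by_cases k : toK _ n ∈ fix2 x y
    · have := sw _ (mul_mem ht hn) fun k2 => k1 (by simpa using mul_mem k2 (inv_mem k))
      rwa [← sq, c.mul_pow, sq, swp_mul_self, one_mul] at this
    · rw [sq, sw n hn k]
  · exact (sm (by decide +kernel) h).elim
  · exact (sm (by decide +kernel) h).elim
  · exact (sm (by decide +kernel) h).elim
  · exact (sm (by decide +kernel) h).elim
  have k0 := k
  obtain ⟨k, c, _, -, h⟩ := isSubfieldType_iff.1 h
  have k1 : (pslSub k).map (subHom k.subtype c) ≤ H := by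
    rcases h with rfl | rfl
    exacts [le_rfl, map_le_range _ _]
  haveI := Group.isSolvable_of_isSolvable_injective (inclusion_injective k1)
  obtain ⟨e⟩ := equiv_map_subHom k.subtype c
  refine (not_isSolvable_psl ?_ (Group.isSolvable_of_surjective (f := e.toMonoidHom) e.surjective)).elim
  by_contra! k2
  have k3 := two_le_card_field k
  haveI := Fintype.ofFinite k
  have k4 : H ≤ (subHom k.subtype c).range := by
    rcases h with rfl | rfl
    exacts [map_le_range _ _, le_rfl]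
  obtain ⟨g, hg⟩ := k4 ha
  refine k0 (Nat.card PGL(2, k)) (by rw [← hg, ← map_pow, pow_card_eq_one', map_one]) ?_
  rw [card_PGL2]
  interval_cases Nat.card k <;> norm_num

local notation "G7" => GL (Fin 7) F
local notation "M7" => Matrix (Fin 7) (Fin 7) F
local notation "mk" => (ProjGenLinGroup.mk : GL (Fin 2) _ →* PGL(2, _))

open Cfsg.Lib.C6B (pr pr_eq pr_eq_one sc_of_mem)
open Cfsg.Lib.C6T (sc_comm_iff)

section

variable (D : Ov ζ γ x y u w h t M) (c2 : (2 : F) ≠ 0) (H : HH M)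
include D c2 H

omit c2 in
theorem dgU {g : G7} (hg : g ∈ M) {d : Fin 7 → F} (e : g.1 = diagonal d) (d2 : ∀ i, d i ^ 2 = 1) (i j : Fin 7) :
    d i = d j := by
  have k0 : ∀ {a : G7} {σ}, a ∈ M → Pm a σ → ∀ {d : Fin 7 → F}, (∃ g ∈ M, g.1 = diagonal d) →
      ∃ g ∈ M, g.1 = diagonal (d ∘ σ) := fun ha e _ ⟨g, hg, e1⟩ =>
    ⟨_, mul_mem (mul_mem ha hg) (inv_mem ha), by rw [← cj_coe, e, e1, submatrix_diagonal_equiv]⟩
  have k1 : ∀ {d d' : Fin 7 → F}, (∃ g ∈ M, g.1 = diagonal d) → (∃ g ∈ M, g.1 = diagonal d') →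
      ∃ g ∈ M, g.1 = diagonal (d * d') := fun ⟨a, ha, e⟩ ⟨b, hb, e'⟩ =>
    ⟨_, mul_mem ha hb, by rw [Units.val_mul, e, e', diagonal_mul_diagonal]; rfl⟩
  have k : ∀ d : Fin 7 → F, (∃ g ∈ M, g.1 = diagonal d) → (∀ i, d i ^ 2 = 1) → d 0 = ∏ i, d i := fun d hd d2 => by
    have k2 := fun n => k0 (pow_mem D.mh n) (D.ph.pow n) hd
    have p2 : (d 0 * ∏ i, d i) * (d 0 * ∏ i, d i) = 1 := by
      rw [← sq, mul_pow, ← Finset.prod_pow]; simp [d2]
    obtain ⟨a, ha, e⟩ := k1 (k1 (k1 (k1 (k1 (k1 hd (k2 1)) (k2 2)) (k2 3)) (k2 4)) (k2 5))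
      (d' := fun _ => d 0 * ∏ i, d i) ⟨_, D.sc (scGL_mem ⟨_, _, p2, p2⟩), by rw [coe_scGL, smul_one_eq_diagonal]⟩
    have := H _ ha (d 0 * ∏ i, d i) (by
      rw [e]
      ext i j
      by_cases ij : i = j
      · subst ij
        have := d2 0
        rw [Fin.prod_univ_seven] at p2
        fin_cases i <;> simp [r3, pow_succ, Fin.prod_univ_seven] <;> grind
      · simp [ij, single_apply]; grind)
    grind
  have : ∀ i, d i = ∏ i, d i := fun i => by
    obtain ⟨m, rfl⟩ := (by decide : ∀ i : Fin 7, ∃ m : Fin 7, (r1 ^ m.1) 0 = i) i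
    simpa [Equiv.prod_comp] using k _ (k0 (pow_mem D.my m) (D.py.pow m) ⟨g, hg, e⟩) fun i => d2 _
  rw [this i, this j]

theorem solvU : Group.IsSolvable ↥(M ⊓ centralizer {u}) := by
  have z := fun g (hg : g ∈ M ⊓ centralizer {u}) {i j} => D.zu (i := i) (j := j) (mem_centralizer_singleton_iff.1 hg.2)
  haveI := PF.isSolvable_of_odd (commutator ↥(M ⊓ centralizer {u})) (Nat.not_even_iff_odd.1 fun e => by
    obtain ⟨⟨s, hs⟩, o⟩ := exists_prime_orderOf_dvd_card' 2 e.two_dvd
    have s2 := pow_orderOf_eq_one (⟨s, hs⟩ : commutator _)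
    replace s2 : s.1.1 * s.1.1 = 1 := by rw [o, sq] at s2; exact congrArg (·.1.1.1) s2
    have k : ∀ {κ : Type} [Fintype κ] [DecidableEq κ] (f : κ → Fin 7), Function.Injective f →
        (∀ k j, k ∉ Set.range f → f j ≠ k ∧ f j ≠ r6 k) → (s.1.1.submatrix f f).det = 1 := fun f h1 h2 =>
      congrArg Units.val (Abelianization.commutator_subset_ker (GeneralLinearGroup.det.comp
        (resS _ f h1 fun g hg k j e => z g hg (h2 k j e).1 (h2 k j e).2)) hs)
    have k0 : s.1.1 0 0 = 1 := (det_fin_one _).symm.trans (k ![0] (by decide) (by decide))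
    have k1 : ∀ i j, j ≠ i → s.1.1 i j = 0 := fun i j ij => by
      by_cases e : j = r6 i
      · subst e
        have h1 := k ![i, r6 i] (by revert i; decide) (by clear * -; revert i; decide)
        have h2 : ∀ j, (1 : M7) i j = s.1.1 i i * s.1.1 i j + s.1.1 i (r6 i) * s.1.1 (r6 i) j := fun j => by
          rw [← s2, mul_apply, Fintype.sum_eq_add i (r6 i) ij.symm fun l hl => by rw [z _ s.2 hl.1 hl.2, zero_mul]]
        have h3 := h2 i
        have h4 := h2 (r6 i)
        rw [det_fin_two] at h1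
        simp [ij.symm] at h1 h3 h4
        clear * - h1 h3 h4 c2
        grind
      · exact z _ s.2 ij e
    have k2 : s.1.1 = diagonal s.1.1.diag := ext fun i j => by
      by_cases e : i = j
      · simp [e]
      · simp [e, k1 i j (Ne.symm e)]
    have k3 := dgU D H s.2.1 k2 fun i => by
      rw [k2, diagonal_mul_diagonal] at s2
      simpa [sq] using congrFun (congrFun s2 i) i
    rw [show (⟨s, hs⟩ : commutator _) = 1 from Subtype.ext (Subtype.ext (Units.ext (by
      rw [k2, show s.1.1.diag = 1 from funext fun i => (k3 i 0).trans k0]; rfl)))] at o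
    simp at o)
  exact Group.isSolvable_of_ker_le_range (commutator _).subtype Abelianization.of (by simp)

theorem kuU {n : G7} (hn : n ∈ M) (e1 : n * u = u * n) (e2 : n * t = t * n) (e3 : n.1 * J3 F = J3 F) :
    n = 1 ∨ n = t := by
  classical
  have z0 := D.prim.ne_zero (by norm_num)
  have sy : ∀ i j, n.1 (r6 i) (r6 j) = n.1 i j := fun i j =>
    congrFun (congrFun ((D.pt n.1).symm.trans ((cj_eq_self_iff _ _).2 (congrArg Units.val e2).symm)) i) j
  have rr : ∀ i, r6 (r6 i) = i := by decide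
  have k1 : ∀ i, i ≠ 0 → n.1 i i * n.1 i (r6 i) = 0 := fun i i0 => by
    haveI := solvU D c2 H
    have ir : r6 i ≠ i := by clear * - i0; revert i; decide
    let φ := resS (M ⊓ centralizer {u}) ![i, r6 i] (by clear * - i0; revert i; decide) fun g hg k j e =>
      D.zu (mem_centralizer_singleton_iff.1 hg.2) (by clear * - e; revert i j k; decide)
        (by clear * - e; revert i j k; decide)
    have hφ : ∀ g, (φ g).1 = !![g.1.1 i i, g.1.1 i (r6 i); g.1.1 (r6 i) i, g.1.1 (r6 i) (r6 i)] := fun g => by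
      ext i j; fin_cases i <;> fin_cases j <;> rfl
    clear_value φ
    let t' : ↥(M ⊓ centralizer {u}) := ⟨t, D.mt, mem_centralizer_singleton_iff.2 D.tu⟩
    have t1 : mk (φ t') = swp 1 :=
      (pgl_mk_eq_mk_iff _ _).2 ⟨-1, by simp, by simp [hφ, t', D.ht, PEquiv.toMatrix_apply, rr, ir, ir.symm]⟩
    haveI := Group.isSolvable_of_surjective (MonoidHom.comp mk φ).rangeRestrict_surjective
    have := solv_dihU (H := (MonoidHom.comp mk φ).range) (a := Units.mk0 (ζ ^ (2 * i.1)) (pow_ne_zero _ z0))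
      ⟨⟨x, D.mx, mem_centralizer_singleton_iff.2 D.ux.symm⟩, (pgl_mk_eq_mk_iff _ _).2 ⟨ζ ^ i.1, pow_ne_zero _ z0, by
        simp [hφ, D.hx, ir, ir.symm, ← pow_add, two_mul]
        exact (pow_zero ζ).symm.trans (z7_eq D.prim (by clear * -; revert i; decide))⟩⟩ ⟨t', t1⟩
      ⟨⟨n, hn, mem_centralizer_singleton_iff.2 e1⟩, rfl⟩
      (Units.ext (by simpa [← pow_mul] using z7_eq D.prim (n := 0) (by simp))) (fun e => z7_ne D.prim (m := 2 * i.1) (n := 0)
        (by clear * - i0; revert i; decide) (by simpa using congrArg Units.val e))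
      (t1 ▸ (show Commute t' _ from Subtype.ext e2.symm).map (MonoidHom.comp mk φ))
    rw [MonoidHom.comp_apply, ← map_pow, pgl_mk_eq_one_iff] at this
    have h1 := sy i i
    have := this.1
    simp [sq, hφ, h1] at this
    grind
  have k2 : ∀ i, i ≠ 0 → n.1 i i - n.1 i (r6 i) = 1 := fun i i0 => by
    have := fun j => congrFun (congrFun e3 i) j
    have h0 := this 0
    have h1 := this 1
    have h2 := this 2
    fin_cases i <;> simp [J3, mul_apply, Fin.sum_univ_seven, r6] at h0 h1 h2 i0 ⊢ <;> grind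
  let b : Fin 7 → Bool := fun i => i ≠ 0 ∧ n.1 i i = 0
  have b1 : ∀ i, b (r6 i) = b i := fun i => by
    simp [b, sy, (by decide : ∀ i, r6 i = 0 ↔ i = 0)]
  have k3 : ∀ i j, n.1 i j = if (if b i then r6 i else i) = j then
      (if i = 0 then n.1 0 0 else if b i then -1 else 1) else 0 := fun i j => by
    have h1 := k1 i
    have h2 := k2 i
    have h3 := D.zu e1 (i := i) (j := j)
    have h4 := (by decide : ∀ i, r6 i = i ↔ i = 0) i
    by_cases e : n.1 i i = 0 <;> simp only [b, e] <;> grind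
  have k4 := H _ (mul_mem hn hn) (n.1 0 0 * n.1 0 0) (by
    ext i j
    rw [Units.val_mul, mul_apply, Finset.sum_eq_single (if b i then r6 i else i) (fun l _ hl => by
      rw [k3, if_neg hl.symm, zero_mul]) (by simp), k3 i, if_pos rfl, k3 _ j]
    have h4 := (by decide : ∀ i, r6 i = 0 ↔ i = 0) i
    have h5 := b1 i
    have h6 := rr i
    have h7 : b 0 = false := by simp [b]
    simp only [Matrix.add_apply, one_apply, single_apply]
    grind)
  obtain ⟨e, k5⟩ : ∃ e : Bool, n.1 0 0 = if e then 1 else -1 :=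
    (mul_self_eq_one_iff.1 k4).elim (⟨true, ·⟩) (⟨false, ·⟩)
  rcases evS_spec e b (by simp [b]) b1 with ⟨rfl, k⟩ | ⟨rfl, k⟩ | ⟨l, -, h1, i, j, h2, h3⟩
  · exact .inl (Units.ext (ext fun i j => by rw [k3]; simp [k, k5, one_apply]))
  · refine .inr (Units.ext (ext fun i j => ?_))
    rw [k3, D.ht, k5]
    by_cases e : i = 0 <;> simp [e, k, PEquiv.toMatrix_apply, show r6 0 = 0 from rfl] <;> split_ifs <;> simp
  obtain ⟨g, hg, e1⟩ := D.sp_ev (N := (fun i => if b i then r6 i else i,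
    fun i => if i = 0 then (if e then 1 else -1) else if b i then -1 else 1)) ⟨n, hn, fun i j => by
      rw [k3, k5]; simp⟩ l
  have := dgU D H hg (ext fun i j => by rw [e1, (h1 i).1, diagonal_apply]) (fun i => by
    rw [← Int.cast_pow, (h1 i).2, Int.cast_one]) i j
  simp only [h2, h3] at this
  exact (c2 (by push_cast at this; linear_combination this)).elim

end

/-- Copy `C6S.Ov.dg`, `Ov.solv`, `Ov.ku` (C6/SevF) and `Ov.ker_odd` (C6/SevG) with the hypotheses `O`, `N` replaced by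
`c2`, `H` (`D.hom O N ha e` becomes `H _ ha _ e`, `solv_dih O.ch` becomes `solv_dihU`). -/
theorem ker_hh (D : Ov ζ γ x y u w h t M) (c2 : (2 : F) ≠ 0) (H : HH M) : KER M t := by
  have cm := fun g : ↥(M ⊓ centralizer {t}) => mem_centralizer_singleton_iff.1 g.2.2
  let α := resJ (M ⊓ centralizer {t}) _ _ k3_j3 fun g hg => D.j3 (cm ⟨g, hg⟩)
  let β := resJ (M ⊓ centralizer {t}) _ _ k4_j4 fun g hg => D.j4 (cm ⟨g, hg⟩)
  have hα : ∀ g, (α g).1 = K3 F * g.1.1 * J3 F := fun _ => rfl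
  have hβ : ∀ g, (β g).1 = K4 F * g.1.1 * J4 F := fun _ => rfl
  clear_value α β
  have ka : ∀ g, α g = 1 → g.1.1 * J3 F = J3 F := fun g e => by rw [← D.j3 (cm g), ← hα, e]; simp
  have inj : ∀ a b, α a = α b → β a = β b → a = b := fun a b e1 e2 => mul_inv_eq_one.1 (by
    have k1 := ka (a * b⁻¹) (by simp [e1])
    have k2 : (a * b⁻¹).1.1 * J4 F = J4 F := by rw [← D.j4 (cm _), ← hβ]; simp [e2]
    have k3 : J3 F * (J3 F)ᵀ + J4 F * (K4 F * (1 + r6.permMatrix F)) = (2 : F) • 1 := by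
      rw [j3_j3, j4_k4 (by rw [mul_add, ← permMatrix_mul, show r6 * r6 = 1 by decide]; simp [add_comm]), two_smul]
      abel
    refine Subtype.ext (Units.ext (smul_right_injective _ c2 ?_))
    beta_reduce
    rw [← Matrix.mul_one (a * b⁻¹).1.1, ← Matrix.mul_smul, ← k3, mul_add, ← Matrix.mul_assoc, ← Matrix.mul_assoc _ (J4 F),
      k1, k2, k3]
    rfl)
  let u' : ↥(M ⊓ centralizer {t}) := ⟨u, D.mu, mem_centralizer_singleton_iff.2 D.tu.symm⟩
  let w' : ↥(M ⊓ centralizer {t}) := ⟨w, D.mw, mem_centralizer_singleton_iff.2 (D.ww ▸ (Commute.self_pow w 2).eq)⟩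
  let t' : ↥(M ⊓ centralizer {t}) := ⟨t, D.mt, mem_centralizer_singleton_iff.2 rfl⟩
  have u7 : u' ^ 7 = 1 := Subtype.ext D.u7
  have bt : β t' = -1 := Units.ext (by
    rw [hβ, D.ht, Matrix.mul_assoc, Matrix.neg_mul, r6_j4, Matrix.mul_neg, k4_j4]; rfl)
  have fp : ∀ k, α k = 1 → pr (β u') * pr (β k) = pr (β k) * pr (β u') → k.1 = 1 ∨ k.1 = t := fun k e1 e2 => by
    obtain ⟨c, c4, e⟩ := cj_of_pr e2
    have := cj_pow e 7
    rw [← map_pow, u7, map_one, cj_one] at this
    rw [(pow_eq_one_iff_of_coprime (by decide : (Fintype.card (Fin 4)).Coprime 7)).1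
      ⟨c4, smul_left_injective F (β k).ne_zero (this.symm.trans (one_smul _ _).symm)⟩, one_smul,
      cj_eq_self_iff] at e
    exact kuU D c2 H k.2.1 (congrArg Subtype.val (inj (k * u') (u' * k) (by simp [e1])
      (Units.ext (by simpa using e.symm)))) (cm k) (ka k e1)
  intro k hk e1 e2
  let π := (pr.comp β).rangeRestrict
  haveI := α.normal_ker.map π (MonoidHom.rangeRestrict_surjective _)
  by_contra e3
  obtain ⟨Z, z1, z2, z3, z4⟩ := fpf_center (α.ker.map π) (a := π u') (by rw [← map_pow, u7, map_one]) (by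
    rintro _ ⟨k, hk, rfl⟩ e
    refine Subtype.ext (pr_eq_one.2 ?_)
    rcases fp k hk (congrArg Subtype.val e) with e | e
    · rw [show k = 1 from Subtype.ext e, map_one]; exact sc_one
    · rw [show k = t' from Subtype.ext e, bt]; exact C6B.sc_neg_one) fun e => by
    have k1 : α ⟨k, hk, mem_centralizer_singleton_iff.2 e1⟩ = 1 :=
      Units.ext (by rw [hα, Matrix.mul_assoc, e2, k3_j3]; rfl)
    have : pr (β _) = 1 := congrArg Subtype.val (mem_bot.1 (e.le (mem_map_of_mem π k1)))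
    exact e3 (fp _ k1 (by rw [this, mul_one, one_mul]))
  have sj : Function.Surjective (pr (ι := Fin 4) (F := F)) := QuotientGroup.mk'_surjective _
  obtain ⟨_, hZ, e⟩ := exists_not_smul (N := (Z.map (Subgroup.subtype _)).comap pr) fun e => z2 (eq_bot_iff.2 fun a ha => by
    obtain ⟨g, hg⟩ := sj a
    exact Subtype.ext (hg.symm.trans (pr_eq_one.2 (sc_of_mem (e ⟨a, ha, hg.symm⟩)))))
  have := relIndex_scalars (sub4 D.prim (H := β.range) ⟨u', rfl⟩ ⟨w', rfl⟩ ((hβ _).trans D.k4_u)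
    (hβ w' ▸ D.k4_w c2)
    (inv_eq_of_mul_eq_one_left (by
      rw [neg_mul, ← map_mul, ← sq, show w' ^ 2 = t' from Subtype.ext D.ww, bt, neg_neg])) (nrm_env (by
      rintro _ ⟨g, rfl⟩
      refine mem_normalizer ?_
      rintro s ⟨a, ha, e⟩
      exact ⟨_, z1.conj_mem a ha (π g), by simp [← e, π]⟩)) hZ e) (commutator_le.2 (by
      rintro a ⟨a', ha, e1⟩ b ⟨b', hb, e2⟩
      exact C6B.mem_scalars (sc_comm_iff.2 (by rw [← e1, ← e2, ← map_mul, z3 a' ha b' hb, map_mul]))))
  replace this := ((relIndex_ker _ pr).symm.trans (congrArg (relIndex · _) (QuotientGroup.ker_mk' _))).trans this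
  rw [map_comap_eq_self_of_surjective sj,
    card_map_of_injective (subtype_injective _)] at this
  simp [this] at z4

end Cfsg.Lib.C6U
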